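import Cfsg.Agent.H171.RV.FactsA
import Cfsg.Agent.H573.RM.MonTwo
import Cfsg.Agent.H464.RM.ZTP
import Cfsg.Agent.H555.RV.Crit
import Cfsg.Agent.KFacts.Baby.Sheet
import Cfsg.Agent.H256.Sep.RowB

/-!
# S3849, piece P11: the Baby Monster, the pairs `(2,7)`, `(2,13)` (helper841)
-/

set_option autoImplicit false
set_option maxRecDepth 100000

namespace Cfsg.Agent.H841.RM.BTwo

open Subgroup Cfsg Cfsg.Agent.H571.DExt Cfsg.Agent.H464.RM Cfsg.Agent.H171.RV.TwoP
open Cfsg.Agent.BabyM Cfsg.Agent.BabyM.Model Cfsg.Agent.BabyU.ClosModel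
open Cfsg.Agent.BabyU.ClosLane (A)
open Cfsg.Agent.KFacts.Baby.Inst (eC large)

universe u

abbrev G : Type := Cfsg.Spor.BabyMonster

theorem iso : Spor.IsoB G := ⟨MulEquiv.refl _⟩

theorem fin : Finite G := Cfsg.Agent.H256.Sep.RowB.fin

theorem simple : IsSimpleGroup G := Cfsg.Agent.H256.Sep.RowB.simple

theorem card : Nat.card G = 4154781481226426191177580544000000 := Cfsg.Agent.H256.Sep.RowB.card

theorem card_cz : Nat.card (centralizer ({zz A} : Set Inst.M.G)) = 2 ^ 23 * 42305421312000 := by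
  rw [Nat.card_congr (eC A).toEquiv, A.grp.card_C]

/-- the unique central involution of a Sylow 2-subgroup -/
theorem zt : ZT G (2 ^ 23 * 42305421312000) := by
  have hfin := A.finite_G
  have := simple
  obtain ⟨e⟩ := KFacts.Baby.Sheet.exists_iso_of_isoB iso
  exact ZT.congr e (zt_of_large (large A) (dvd_of_eq card_cz))

theorem nd_2_13 : ¬ Dom ({2, 13} : Set ℕ) G := by
  have := fin
  exact H573.RM.Mon.no2_of_zt' (a := 41) (b := 4154781481226426191177580544000000 / (2 ^ 41 * 13))
      zt (by norm_num) (card.trans (by norm_num)) (by decide +kernel) (by norm_num) (by norm_num) (by norm_num)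

theorem nd_2_7 : ¬ Dom ({2, 7} : Set ℕ) G := by
  have := fin
  exact nd_of (no_ztp' (a := 41) (b := 2) (m := 4154781481226426191177580544000000 / (2 ^ 41 * 7 ^ 2))
      zt (by norm_num) (by norm_num) (card.trans (by norm_num)) (by norm_num) (by norm_num) (by norm_num)
      (by decide +kernel))

end Cfsg.Agent.H841.RM.BTwo
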