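import Cfsg.Agent.H841.RM.Five
import Cfsg.Agent.H841.RM.BTwo
import Cfsg.Agent.H536.T5.HNRow
import Cfsg.Agent.H569.BFive
import Cfsg.Agent.H565.TwoLoc

/-!
# S3849, piece P11: the pair `(2,5)` of the Baby Monster (helper841)

* `exists_hn` : `5 ^ (1+4)` in `HN`;
* `nd_2_5`.
-/

set_option autoImplicit false
set_option maxRecDepth 100000

namespace Cfsg.Agent.H841.RM.BFive

open Subgroup Cfsg Cfsg.Agent.H571.DExt Cfsg.Agent.H464.RM
open Cfsg.Agent.H171.Odd (Inv1)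
open Cfsg.Agent.H841.RM.Five
open Cfsg.Agent.Co2Type.Quad (Large)
open Cfsg.Agent.BabyM Cfsg.Agent.BabyM.Model Cfsg.Agent.BabyU.ClosModel
open Cfsg.Agent.BabyU.ClosLane (A)
open Cfsg.Agent.KFacts.Baby.Inst (eC large odd_index)

/-- `5 ^ (1+4)` in `HN` -/
theorem exists_hn : ∃ z n1 n2 n3 n4 : Cfsg.Spor.HN, X5 z n1 n2 n3 n4 := by
  obtain ⟨n1, n2, n3, n4, v, u, D⟩ := Cfsg.Agent.H536.T5.dat
  exact ⟨_, n1, n2, n3, n4, ⟨D.z5, D.z1, D.p1, D.p2, D.p3, D.p4, D.zn1, D.zn2, D.zn3, D.zn4, D.n12, D.n13, D.n14,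
    D.n23, D.n24, D.n34⟩⟩

/-- **(EXTRA5)** : a group containing `HN` -/
theorem no_of_hn {S : Type*} [Group S] [Finite S] {s a b m : ℕ} (hs : s.Prime) (hst : s ≠ 5)
    (hS : Nat.card S = s ^ a * 5 ^ b * m) (h2 : ¬ s ∣ m) (hm : ¬ 5 ∣ m) (hI : Inv1 s 5 S)
    (f : Cfsg.Spor.HN →* S) (hf : Function.Injective f)
    (ha : ∀ k, 1 ≤ k → k ≤ a → ¬ 5 ^ 3 ∣ s ^ k - 1) (K : Subgroup S) : ¬ IsPiHall ({s, 5} : Set ℕ) K := by
  obtain ⟨z, n1, n2, n3, n4, X0⟩ := exists_hn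
  have X := X0.map f hf
  exact no_extra (r := 3) hs Nat.prime_five hst hS h2 hm hI X.pgroup X5.m0 X.z1 X.comm_z (fun D hD hz => X.spec hD hz) ha K

/-- the test of the powers of `s` -/
def chk (s a : ℕ) : Bool := (List.range a).all fun k => !decide (5 ^ 3 ∣ s ^ (k + 1) - 1)

theorem of_chk {s a : ℕ} (hc : chk s a = true) (k : ℕ) (hk : 1 ≤ k) (hka : k ≤ a) : ¬ 5 ^ 3 ∣ s ^ k - 1 := by
  unfold chk at hc
  rw [List.all_eq_true] at hc
  have h1 := hc (k - 1) (List.mem_range.mpr (by omega))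
  rw [Bool.not_eq_true', decide_eq_false_iff_not, show k - 1 + 1 = k by omega] at h1
  exact h1

/-- the weights for `TwoLoc.inv1` -/
def w (k : ℕ) : ℕ := [0, 2, 3, 2, 4, 2, 3].getD k 0

theorem card_model : Nat.card Inst.M.G = 4154781481226426191177580544000000 := A.card_G

theorem inv : Inv1 2 5 Inst.M.G := by
  have hfin := A.finite_G
  have h := large A
  have hQ : IsPGroup 2 (PP Inst.M) := by
    intro x
    refine ⟨2, Subtype.ext ?_⟩
    show (x : Inst.M.G) ^ (2 ^ 2) = 1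
    have e : (x : Inst.M.G) ^ (2 ^ 2) = ((x : Inst.M.G) * x) * ((x : Inst.M.G) * x) := by
      simp only [show (2:ℕ)^2 = 4 from rfl, pow_succ, pow_zero, one_mul, mul_assoc]
    rcases h.sq x x.2 with h1 | h1
    · rw [e, h1, one_mul]
    · rw [e, h1, h.z_sq]
  obtain ⟨T, hT⟩ := Cfsg.Agent.H565.TwoLoc.of_large h (odd_index A).not_two_dvd_nat hQ
  refine hT.inv1 (a := 41) (b := 6) Nat.prime_five (by norm_num) ?_ ?_ w ?_ (by decide)
  · rw [card_model]; norm_num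
  · rw [card_model]; norm_num
  · intro k hk1 hk2
    interval_cases k <;> simp [w]

theorem nd_model : ¬ Dom ({2, 5} : Set ℕ) Inst.M.G := by
  have hfin := A.finite_G
  have := BTwo.simple
  obtain ⟨e⟩ := KFacts.Baby.Sheet.exists_iso_of_isoB BTwo.iso
  obtain ⟨f, hf⟩ := Cfsg.Agent.H569.BFive.exists_hom
  exact nd_of (no_of_hn (a := 41) (b := 6) (m := 4154781481226426191177580544000000 / (2 ^ 41 * 5 ^ 6))
    Nat.prime_two (by norm_num) (card_model.trans (by norm_num)) (by norm_num) (by norm_num) inv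
    (e.symm.toMonoidHom.comp f) (e.symm.injective.comp hf) (of_chk (by decide +kernel)))

theorem nd_2_5 : ¬ Dom ({2, 5} : Set ℕ) Cfsg.Spor.BabyMonster := by
  have := BTwo.fin
  have := BTwo.simple
  obtain ⟨e⟩ := KFacts.Baby.Sheet.exists_iso_of_isoB BTwo.iso
  exact fun h1 => nd_model (Cfsg.Agent.H555.RV.dom_equiv e.symm h1)

end Cfsg.Agent.H841.RM.BFive
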