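import Cfsg.Agent.H841.RM.BTwo
import Cfsg.Agent.H464.RM.Tools
import Cfsg.Agent.H171.Odd.BThree
import Cfsg.Agent.H553.BFiveFin
import Cfsg.Agent.H630.NHBaby
import Cfsg.Agent.H123.SpNC

/-!
# S3849, piece P11: the Baby Monster, the pairs `(3,5)`, `(5,7)`, `(3,7)` (helper841)
-/

set_option autoImplicit false
set_option maxRecDepth 100000

namespace Cfsg.Agent.H841.RM.BGL

open Subgroup Cfsg Cfsg.Agent.H571.DExt Cfsg.Agent.H464.RM
open Cfsg.Agent.H171.Odd (Inv1)
open Cfsg.Agent.H841.RM.BTwo (G iso fin simple card)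

/-- a weight list -/
def wt (l : List ℕ) (k : ℕ) : ℕ := l.getD k 0

/-- the numerical condition -/
def chkGL (s t a b : ℕ) (l : List ℕ) : Bool :=
  ((List.range a).all fun k => !decide (t ^ (wt l (k + 1) + 1) ∣ s ^ (k + 1) - 1)) &&
    decide (∑ k ∈ Finset.range a, wt l (k + 1) < b)

theorem no_gl' {S : Type*} [Group S] [Finite S] {s t a b m : ℕ} (hs : s.Prime) (ht : t.Prime) (hst : s ≠ t)
    (hS : Nat.card S = s ^ a * t ^ b * m) (h2 : ¬ s ∣ m) (hm : ¬ t ∣ m) (hI : Inv1 s t S) (l : List ℕ)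
    (hc : chkGL s t a b l = true) : ¬ Dom ({s, t} : Set ℕ) S := by
  unfold chkGL at hc
  rw [Bool.and_eq_true, List.all_eq_true, decide_eq_true_eq] at hc
  refine nd_of (no_gl hs ht hst hS h2 hm hI (wt l) (fun k hk hka => ?_) hc.2)
  have h1 := hc.1 (k - 1) (List.mem_range.mpr (by omega))
  rw [Bool.not_eq_true', decide_eq_false_iff_not, show k - 1 + 1 = k by omega] at h1
  exact h1

theorem nd_3_5 : ¬ Dom ({3, 5} : Set ℕ) G := by
  have := fin
  exact no_gl' (a := 13) (b := 6) (m := 4154781481226426191177580544000000 / (3 ^ 13 * 5 ^ 6))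
    (by norm_num) (by norm_num) (by norm_num) (card.trans (by norm_num)) (by norm_num) (by norm_num)
    (Cfsg.Agent.H171.Odd.BThree.inv_b3 (by simp)) [0, 0, 0, 0, 1, 0, 0, 0, 1, 0, 0, 0, 1] (by decide +kernel)

theorem nd_5_7 : ¬ Dom ({5, 7} : Set ℕ) G := by
  have := fin
  exact no_gl' (a := 6) (b := 2) (m := 4154781481226426191177580544000000 / (5 ^ 6 * 7 ^ 2))
    (by norm_num) (by norm_num) (by norm_num) (card.trans (by norm_num)) (by norm_num) (by norm_num)
    (Cfsg.Agent.H553.BFiveInv.inv_b (Or.inl rfl)) [0, 0, 0, 0, 0, 0, 1] (by decide +kernel)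

/-- the centralizer of an element of order 7 -/
theorem not_dvd_seven {x : G} (hx : orderOf x = 7) : ¬ 3 ^ 6 ∣ Nat.card (centralizer ({x} : Set G)) := by
  intro h1
  have hfin := Cfsg.Agent.MThirteen.Row.finite
  have := fin
  obtain ⟨t, y, ht, hy, hyt, hc⟩ := Cfsg.Agent.H630.Baby.exists_lift_card iso (r := 7) (by norm_num) (by norm_num) hx
  have h3 := h1.trans (Cfsg.Agent.H630.Baby.card_dvd_XT (r := 7) hc (n := 4030387200 * 7) (by
    rw [← H478.SporBaby.card_cent (v := t) ht hy hyt]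
    exact card_dvd_of_le inf_le_left))
  norm_num at h3

/-- a four-group of order 49 -/
theorem exists_49 : ∃ E : Subgroup G, Cfsg.IsElementaryAbelian 7 E ∧ Nat.card E = 7 ^ 2 := by
  have := fin
  have h7 : Fact (Nat.Prime 7) := ⟨by norm_num⟩
  obtain ⟨P⟩ : Nonempty (Sylow 7 G) := inferInstance
  have hc : Nat.card (P : Subgroup G) = 7 ^ 2 := by
    refine H555.RV.card_sylow_of P (b := 2) (n := 4154781481226426191177580544000000 / 7 ^ 2) ?_ (by norm_num)
    rw [card]
    norm_num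
  have hn := Cfsg.Agent.H123.SpNC.b_7 iso P
  have hcomm : ∀ a b : (P : Subgroup G), a * b = b * a := by
    intro a b
    let _ := IsPGroup.commGroupOfCardEqPrimeSq hc
    exact mul_comm a b
  refine ⟨P, ⟨⟨⟨hcomm⟩⟩, ?_⟩, hc⟩
  intro x hx
  by_contra hne
  apply hn
  refine isCyclic_of_orderOf_eq_card (⟨x, hx⟩ : (P : Subgroup G)) ?_
  rw [hc]
  exact orderOf_eq_prime_pow (n := 1) (fun h => hne (by
    have h2 := congrArg Subtype.val h
    rw [pow_one] at h2
    exact h2)) (by rw [show (1 : ℕ) + 1 = 2 from rfl, ← hc]; exact pow_card_eq_one')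

theorem nd_3_7 : ¬ Dom ({3, 7} : Set ℕ) G := by
  have := fin
  obtain ⟨E, hE, hc⟩ := exists_49
  exact nd_of (no_nc (a := 13) (b := 2) (o := 6) (m := 4154781481226426191177580544000000 / (3 ^ 13 * 7 ^ 2))
    (by norm_num) (by norm_num) (by norm_num) (card.trans (by norm_num)) (by norm_num) (by norm_num)
    (Cfsg.Agent.H171.Odd.BThree.inv_b3 (by simp)) hE hc (fun k hk1 hk2 => by interval_cases k <;> norm_num)
    (fun x hx => not_dvd_seven hx))

end Cfsg.Agent.H841.RM.BGL
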