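import Cfsg.Agent.H841.RM.B
import Cfsg.Agent.H841.RM.BTwo
import Cfsg.Agent.H841.RM.BGL
import Cfsg.Agent.H841.RM.BFive

/-!
# S3849, piece P11: the Baby Monster, all pairs (helper841)
-/

set_option autoImplicit false

namespace Cfsg.Agent.H841.RM

open Cfsg Cfsg.Agent.H571.DExt

universe u

theorem of_model {π : Set ℕ} (hn : ¬ Dom π Cfsg.Spor.BabyMonster) {S : Type u} [Group S] [Finite S] (h : Spor.IsoB S) :
    ¬ Dom π S := by
  obtain ⟨e⟩ := h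
  exact fun h1 => hn (Cfsg.Agent.H555.RV.dom_equiv e h1)

theorem no2_b_5 {S : Type u} [Group S] [Finite S] [IsSimpleGroup S] (h : Spor.IsoB S) :
    ¬ Dom ({2, 5} : Set ℕ) S :=
  of_model BFive.nd_2_5 h

theorem no2_b_7 {S : Type u} [Group S] [Finite S] [IsSimpleGroup S] (h : Spor.IsoB S) :
    ¬ Dom ({2, 7} : Set ℕ) S :=
  of_model BTwo.nd_2_7 h

theorem no2_b_11 {S : Type u} [Group S] [Finite S] [IsSimpleGroup S] (h : Spor.IsoB S) :
    ¬ Dom ({2, 11} : Set ℕ) S :=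
  of_model B.nd_2_11 h

theorem no2_b_13 {S : Type u} [Group S] [Finite S] [IsSimpleGroup S] (h : Spor.IsoB S) :
    ¬ Dom ({2, 13} : Set ℕ) S :=
  of_model BTwo.nd_2_13 h

theorem no2_b_17 {S : Type u} [Group S] [Finite S] [IsSimpleGroup S] (h : Spor.IsoB S) :
    ¬ Dom ({2, 17} : Set ℕ) S :=
  of_model B.nd_2_17 h

theorem no2_b_19 {S : Type u} [Group S] [Finite S] [IsSimpleGroup S] (h : Spor.IsoB S) :
    ¬ Dom ({2, 19} : Set ℕ) S :=
  of_model B.nd_2_19 h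

theorem no2_b_23 {S : Type u} [Group S] [Finite S] [IsSimpleGroup S] (h : Spor.IsoB S) :
    ¬ Dom ({2, 23} : Set ℕ) S :=
  of_model B.nd_2_23 h

theorem no2_b_31 {S : Type u} [Group S] [Finite S] [IsSimpleGroup S] (h : Spor.IsoB S) :
    ¬ Dom ({2, 31} : Set ℕ) S :=
  of_model B.nd_2_31 h

theorem no2_b_47 {S : Type u} [Group S] [Finite S] [IsSimpleGroup S] (h : Spor.IsoB S) :
    ¬ Dom ({2, 47} : Set ℕ) S :=
  of_model B.nd_2_47 h

theorem no_b_3_5 {S : Type u} [Group S] [Finite S] [IsSimpleGroup S] (h : Spor.IsoB S) :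
    ¬ Dom ({3, 5} : Set ℕ) S :=
  of_model BGL.nd_3_5 h

theorem no_b_3_7 {S : Type u} [Group S] [Finite S] [IsSimpleGroup S] (h : Spor.IsoB S) :
    ¬ Dom ({3, 7} : Set ℕ) S :=
  of_model BGL.nd_3_7 h

theorem no_b_3_11 {S : Type u} [Group S] [Finite S] [IsSimpleGroup S] (h : Spor.IsoB S) :
    ¬ Dom ({3, 11} : Set ℕ) S :=
  of_model B.nd_3_11 h

theorem no_b_3_13 {S : Type u} [Group S] [Finite S] [IsSimpleGroup S] (h : Spor.IsoB S) :
    ¬ Dom ({3, 13} : Set ℕ) S :=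
  of_model B.nd_3_13 h

theorem no_b_3_23 {S : Type u} [Group S] [Finite S] [IsSimpleGroup S] (h : Spor.IsoB S) :
    ¬ Dom ({3, 23} : Set ℕ) S :=
  of_model B.nd_3_23 h

theorem no_b_5_7 {S : Type u} [Group S] [Finite S] [IsSimpleGroup S] (h : Spor.IsoB S) :
    ¬ Dom ({5, 7} : Set ℕ) S :=
  of_model BGL.nd_5_7 h

theorem no_b_5_11 {S : Type u} [Group S] [Finite S] [IsSimpleGroup S] (h : Spor.IsoB S) :
    ¬ Dom ({5, 11} : Set ℕ) S :=
  of_model B.nd_5_11 h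

theorem no_b_5_13 {S : Type u} [Group S] [Finite S] [IsSimpleGroup S] (h : Spor.IsoB S) :
    ¬ Dom ({5, 13} : Set ℕ) S :=
  of_model B.nd_5_13 h

theorem no_b_5_31 {S : Type u} [Group S] [Finite S] [IsSimpleGroup S] (h : Spor.IsoB S) :
    ¬ Dom ({5, 31} : Set ℕ) S :=
  of_model B.nd_5_31 h

end Cfsg.Agent.H841.RM
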