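import Cfsg.Agent.H841.RM.Dvd
import Cfsg.Agent.H555.RV.Crit
import Cfsg.Agent.H256.Sep.RowB
import Cfsg.Agent.H139.LD.Struct13
import Cfsg.Agent.H715.Mon.RowB
import Cfsg.Agent.H680.PQR.BEleven
import Cfsg.Agent.H322.Odm.BCent
import Cfsg.Agent.H630.NHBaby
import Cfsg.Agent.H180.TriH.Baby
import Cfsg.Agent.H455.RecBEleven
import Cfsg.Agent.OrdDiv.Table
import Cfsg.Agent.S0000

/-!
# S3849, piece P11: the Baby Monster, the pairs settled by `|C(x)|`, `x` of order 11, 13, 17, 19, 23, 31, 47 (helper841)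
-/

set_option autoImplicit false
set_option maxRecDepth 100000

namespace Cfsg.Agent.H841.RM.B

open Subgroup Cfsg Cfsg.Agent.H571.DExt Cfsg.Agent.H464.RM Cfsg.Agent.OrdDiv Cfsg.Agent.H940.Eng Cfsg.Agent.H841.RM
open Cfsg.Agent.H940.Eng.D
open Cfsg.Agent.H256.Sep.RowB (NC)
open Cfsg.Agent

universe u

abbrev G : Type := Cfsg.Spor.BabyMonster

theorem base : Base := ⟨Cfsg.Agent.OrdDiv.table.{0}, fun _ _ _ _ => Cfsg.Agent.S0000.result⟩

theorem iso : Spor.IsoB G := ⟨MulEquiv.refl _⟩

theorem fin : Finite G := Cfsg.Agent.H256.Sep.RowB.fin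

theorem simple : IsSimpleGroup G := Cfsg.Agent.H256.Sep.RowB.simple

theorem card : Nat.card G = n_b := Cfsg.Agent.H256.Sep.RowB.card

/-- the prime factors excluded by non-commuting elements -/
theorem dvd_aux {r : ℕ} (ps : List ℕ) (h : ∀ p ∈ ps, r.Prime ∧ p.Prime ∧ NC r p) {x : G} (hx : orderOf x = r) :
    Nat.card (centralizer ({x} : Set G)) ∣ prodl (l_b.filter fun x => !(ps.contains x.1)) := by
  have h1 := Cfsg.Agent.H256.Sep.RowB.dvd_aux ps h (R := zpowers x) (by rw [Nat.card_zpowers, hx])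
  have h2 : centralizer ((zpowers x : Subgroup G) : Set G) = centralizer ({x} : Set G) := by
    rw [zpowers_eq_closure, centralizer_closure]
  rwa [h2] at h1

/-- an element of order `t` -/
theorem exists_elt {t : ℕ} (ht : t.Prime) (hd : n_b % t = 0) : ∃ x : G, orderOf x = t := by
  have := fin
  have := Fact.mk ht
  exact exists_prime_orderOf_dvd_card' t (by rw [card]; exact Nat.dvd_of_mod_eq_zero hd)

/-! ### order 13 -/

theorem cent13 (x : G) (hx : orderOf x = 13) : Nat.card (centralizer ({x} : Set G)) = 312 :=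
  (Cfsg.Agent.H139.LD.struct13_model hx).1

theorem nd_3_13 : ¬ Dom ({3, 13} : Set ℕ) G := by
  have := fin
  have := simple
  exact nd_cent' (a := 13) (by norm_num) (by norm_num) (by norm_num) card cent13 (by decide +kernel)

theorem nd_5_13 : ¬ Dom ({5, 13} : Set ℕ) G := by
  have := fin
  have := simple
  exact nd_cent' (a := 6) (by norm_num) (by norm_num) (by norm_num) card cent13 (by decide +kernel)

/-! ### order 17 -/

theorem cent17 {x : G} (hx : orderOf x = 17) : Nat.card (centralizer ({x} : Set G)) ∣ prodl [(2, 2), (3, 1), (7, 1), (17, 1)] := by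
  have := fin
  obtain ⟨y, hy, h⟩ := Cfsg.Agent.H715.Mon.RowB.exists_cent iso (p := 17) (by norm_num) (by norm_num) hx
  have h1 := h.trans (Cfsg.Agent.H241.Mon.card_seventeen (Cfsg.Agent.H715.Mon.Grp.three base) hy)
  have h2 : (168 * 17 : ℕ) = prodl [(2, 2), (3, 1), (7, 1), (17, 1)] * 2 := by decide
  rw [h2] at h1
  exact Nat.dvd_of_mul_dvd_mul_right (by norm_num) h1

theorem nd_2_17 : ¬ Dom ({2, 17} : Set ℕ) G := by
  have := fin
  have := simple
  obtain ⟨x, hx⟩ := exists_elt (t := 17) (by norm_num) (by decide +kernel)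
  exact nd_dvd (a := 41) (by norm_num) (by norm_num) (by norm_num) card hx (by decide +kernel) (cent17 hx)
    (fun _ => true) rfl (by decide +kernel)

/-! ### order 31 -/

theorem cent31 {x : G} (hx : orderOf x = 31) : Nat.card (centralizer ({x} : Set G)) ∣ prodl [(3, 1), (31, 1)] := by
  have := fin
  obtain ⟨y, hy, h⟩ := Cfsg.Agent.H715.Mon.RowB.exists_cent iso (p := 31) (by norm_num) (by norm_num) hx
  rw [Cfsg.Agent.H715.Mon.Cent.card31 (Cfsg.Agent.H715.Mon.Grp.sThree base) hy] at h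
  have h2 : (6 * 31 : ℕ) = prodl [(3, 1), (31, 1)] * 2 := by decide
  rw [h2] at h
  exact Nat.dvd_of_mul_dvd_mul_right (by norm_num) h

theorem nd_2_31 : ¬ Dom ({2, 31} : Set ℕ) G := by
  have := fin
  have := simple
  obtain ⟨x, hx⟩ := exists_elt (t := 31) (by norm_num) (by decide +kernel)
  exact nd_dvd (a := 41) (by norm_num) (by norm_num) (by norm_num) card hx (by decide +kernel) (cent31 hx)
    (fun _ => true) rfl (by decide +kernel)

theorem nd_5_31 : ¬ Dom ({5, 31} : Set ℕ) G := by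
  have := fin
  have := simple
  obtain ⟨x, hx⟩ := exists_elt (t := 31) (by norm_num) (by decide +kernel)
  exact nd_dvd (a := 6) (by norm_num) (by norm_num) (by norm_num) card hx (by decide +kernel) (cent31 hx)
    (fun _ => true) rfl (by decide +kernel)

/-! ### order 47 -/

theorem cent47 {x : G} (hx : orderOf x = 47) : Nat.card (centralizer ({x} : Set G)) ∣
    prodl (l_b.filter fun x => !([2, 3, 5, 7, 31].contains x.1)) := by
  refine dvd_aux _ ?_ hx
  intro p hp
  simp only [List.mem_cons, List.not_mem_nil, or_false] at hp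
  rcases hp with rfl | rfl | rfl | rfl | rfl
  · exact ⟨by norm_num, by norm_num, Cfsg.Agent.H256.Sep.RowB.nc47_2⟩
  · exact ⟨by norm_num, by norm_num, Cfsg.Agent.H256.Sep.RowB.nc47 (Or.inl rfl)⟩
  · exact ⟨by norm_num, by norm_num, Cfsg.Agent.H256.Sep.RowB.nc47 (Or.inr (Or.inl rfl))⟩
  · exact ⟨by norm_num, by norm_num, Cfsg.Agent.H256.Sep.RowB.nc47 (Or.inr (Or.inr rfl))⟩
  · exact ⟨by norm_num, by norm_num, Cfsg.Agent.H256.Sep.RowB.nc47_31⟩

theorem nd_2_47 : ¬ Dom ({2, 47} : Set ℕ) G := by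
  have := fin
  have := simple
  obtain ⟨x, hx⟩ := exists_elt (t := 47) (by norm_num) (by decide +kernel)
  exact nd_dvd (a := 41) (by norm_num) (by norm_num) (by norm_num) card hx (by decide +kernel) (cent47 hx)
    (fun _ => true) rfl (by decide +kernel)

/-! ### order 23 -/

theorem cent23 {x : G} (hx : orderOf x = 23) : Nat.card (centralizer ({x} : Set G)) ∣
    prodl (l_b.filter fun x => !([3, 5, 7, 17, 19, 31, 47].contains x.1)) := by
  have := fin
  have h3 : Cfsg.Agent.H241.NH.Three.{0} := Cfsg.Agent.H715.Mon.Grp.three base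
  refine dvd_aux _ ?_ hx
  intro p hp
  simp only [List.mem_cons, List.not_mem_nil, or_false] at hp
  rcases hp with rfl | rfl | rfl | rfl | rfl | rfl | rfl
  · exact ⟨by norm_num, by norm_num, Cfsg.Agent.H256.Sep.RowB.nc23_3⟩
  · exact ⟨by norm_num, by norm_num, Cfsg.Agent.H256.Sep.RowB.nc23_5⟩
  · exact ⟨by norm_num, by norm_num, Cfsg.Agent.H256.Sep.RowB.nc23_7⟩
  · exact ⟨by norm_num, by norm_num, fun a b ha hb hab => Cfsg.Agent.H180.TH.Baby.no_23 h3 iso (by simp) hb ha hab.symm⟩
  · exact ⟨by norm_num, by norm_num, fun a b ha hb hab => Cfsg.Agent.H180.TH.Baby.no_23 h3 iso (by simp) hb ha hab.symm⟩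
  · exact ⟨by norm_num, by norm_num, fun a b ha hb hab => Cfsg.Agent.H180.TH.Baby.no_23 h3 iso (by simp) hb ha hab.symm⟩
  · exact ⟨by norm_num, by norm_num, fun a b ha hb hab => Cfsg.Agent.H180.TH.Baby.no_23 h3 iso (by simp) hb ha hab.symm⟩

theorem nd_2_23 : ¬ Dom ({2, 23} : Set ℕ) G := by
  have := fin
  have := simple
  obtain ⟨x, hx⟩ := exists_elt (t := 23) (by norm_num) (by decide +kernel)
  exact nd_dvd (a := 41) (by norm_num) (by norm_num) (by norm_num) card hx (by decide +kernel) (cent23 hx)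
    (fun _ => true) rfl (by decide +kernel)

theorem nd_3_23 : ¬ Dom ({3, 23} : Set ℕ) G := by
  have := fin
  have := simple
  obtain ⟨x, hx⟩ := exists_elt (t := 23) (by norm_num) (by decide +kernel)
  exact nd_dvd (a := 13) (by norm_num) (by norm_num) (by norm_num) card hx (by decide +kernel) (cent23 hx)
    (fun _ => true) rfl (by decide +kernel)

/-! ### order 19 -/

theorem cent19 {x : G} (hx : orderOf x = 19) : Nat.card (centralizer ({x} : Set G)) ∣
    prodl [(2, 3), (11, 1), (13, 1), (17, 1), (19, 1), (23, 1), (31, 1), (47, 1)] := by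
  have := fin
  have h1 : Nat.card (centralizer ({x} : Set G)) ∣ prodl (l_b.filter fun x => !([3, 5, 7].contains x.1)) := by
    refine dvd_aux _ ?_ hx
    intro p hp
    simp only [List.mem_cons, List.not_mem_nil, or_false] at hp
    rcases hp with rfl | rfl | rfl
    · exact ⟨by norm_num, by norm_num, Cfsg.Agent.H256.Sep.RowB.nc19_3⟩
    · exact ⟨by norm_num, by norm_num, Cfsg.Agent.H256.Sep.RowB.nc19_5⟩
    · exact ⟨by norm_num, by norm_num, Cfsg.Agent.H256.Sep.RowB.nc19_7⟩
  have h2 := Cfsg.Agent.H322.Odm.not_dvd_cent hx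
  have h3 : prodl (l_b.filter fun x => !([3, 5, 7].contains x.1)) =
      2 ^ 41 * prodl [(11, 1), (13, 1), (17, 1), (19, 1), (23, 1), (31, 1), (47, 1)] := by decide +kernel
  rw [h3] at h1
  obtain ⟨a, b, ha, hb, hab⟩ := (Nat.dvd_mul).1 h1
  obtain ⟨k, hk, rfl⟩ := (Nat.dvd_prime_pow Nat.prime_two).1 ha
  have hk3 : k ≤ 3 := by
    by_contra hlt
    apply h2
    rw [← hab]
    exact Dvd.dvd.mul_right (pow_dvd_pow 2 (show 4 ≤ k by omega)) b
  have h4 : prodl [(2, 3), (11, 1), (13, 1), (17, 1), (19, 1), (23, 1), (31, 1), (47, 1)] =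
      2 ^ 3 * prodl [(11, 1), (13, 1), (17, 1), (19, 1), (23, 1), (31, 1), (47, 1)] := by decide +kernel
  rw [← hab, h4]
  exact mul_dvd_mul (pow_dvd_pow 2 hk3) hb

theorem nd_2_19 : ¬ Dom ({2, 19} : Set ℕ) G := by
  have := fin
  have := simple
  obtain ⟨x, hx⟩ := exists_elt (t := 19) (by norm_num) (by decide +kernel)
  exact nd_dvd (a := 41) (by norm_num) (by norm_num) (by norm_num) card hx (by decide +kernel) (cent19 hx)
    (fun _ => true) rfl (by decide +kernel)

/-! ### order 11 -/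

theorem cent11_le {x : G} (hx : orderOf x = 11) : Nat.card (centralizer ({x} : Set G)) ≤ 1320 := by
  have := fin
  obtain ⟨t, y, ht, hy, hyt, h⟩ := Cfsg.Agent.H630.Baby.exists_lift_card iso (r := 11) (by norm_num) (by norm_num) hx
  have h1 := Cfsg.Agent.H680.PQR.eleven_pair (y := y) (t := t) hy (MThirteen.Row.ta_order ht) hyt.symm
  have h2 : Nat.card (centralizer ({x} : Set G)) * 2 ≤ 2640 := by
    rw [← h]
    exact h1
  omega

theorem two_dvd {x : G} (hx : orderOf x = 11) : 20 ∣ Nat.card (centralizer ({x} : Set G)) := by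
  have := fin
  obtain ⟨T, c, hT, hT1, -, hc, -⟩ := Cfsg.Agent.H455.RecB.frob_cent hx
  have h4 : 4 ∣ Nat.card (centralizer ({x} : Set G)) := by
    rw [← hc]
    exact orderOf_dvd_natCard c
  have h5 : 5 ∣ Nat.card (centralizer ({x} : Set G)) := by
    have : Fact (Nat.Prime 5) := ⟨by norm_num⟩
    obtain ⟨k, hk⟩ := hT.exists_card_eq
    have hk0 : k ≠ 0 := by
      rintro rfl
      rw [pow_zero] at hk
      exact hT1 (Subgroup.card_eq_one.1 hk)
    refine dvd_trans ?_ (card_subgroup_dvd_card T)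
    rw [hk]
    exact dvd_pow_self 5 hk0
  exact Nat.Coprime.mul_dvd_of_dvd_of_dvd (by norm_num) h4 h5

/-- the test for `|C(x)|`, `x` of order 11 -/
def P11 (c : ℕ) : Bool := Nat.ble c 1320 && c % 20 == 0

theorem P11_cent {x : G} (hx : orderOf x = 11) : P11 (Nat.card (centralizer ({x} : Set G))) = true := by
  unfold P11
  rw [Bool.and_eq_true, beq_iff_eq]
  exact ⟨Nat.ble_eq_true_of_le (cent11_le hx), Nat.mod_eq_zero_of_dvd (two_dvd hx)⟩

theorem nd_2_11 : ¬ Dom ({2, 11} : Set ℕ) G := by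
  have := fin
  have := simple
  obtain ⟨x, hx⟩ := exists_elt (t := 11) (by norm_num) (by decide +kernel)
  exact nd_le (a := 41) (by norm_num) (by norm_num) (by norm_num) card hx (cent11_le hx) P11 (P11_cent hx)
    (by decide +kernel)

theorem nd_3_11 : ¬ Dom ({3, 11} : Set ℕ) G := by
  have := fin
  have := simple
  obtain ⟨x, hx⟩ := exists_elt (t := 11) (by norm_num) (by decide +kernel)
  exact nd_le (a := 13) (by norm_num) (by norm_num) (by norm_num) card hx (cent11_le hx) P11 (P11_cent hx)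
    (by decide +kernel)

theorem nd_5_11 : ¬ Dom ({5, 11} : Set ℕ) G := by
  have := fin
  have := simple
  obtain ⟨x, hx⟩ := exists_elt (t := 11) (by norm_num) (by decide +kernel)
  exact nd_le (a := 6) (by norm_num) (by norm_num) (by norm_num) card hx (cent11_le hx) P11 (P11_cent hx)
    (by decide +kernel)

end Cfsg.Agent.H841.RM.B
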