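import Cfsg.Agent.H464.RM.Count
import Cfsg.Agent.H940.Engine

/-!
# The Sylow count for `D_{s,t}` from a multiple of `|C_S(x)|` (helper841)

`nd_dvd` : `|S|_t = t`, `|C_S(x)|` divides `∏ p ^ k` and passes the test `P`; every divisor of the product that passes the test passes
`cchk`.
-/

set_option autoImplicit false

namespace Cfsg.Agent.H841.RM

open Subgroup Cfsg Cfsg.Agent.H571.DExt Cfsg.Agent.H464.RM Cfsg.Agent.OrdDiv Cfsg.Agent.H940.Eng

universe u

variable {S : Type u} [Group S]

/-- **`|S|_t = t`, `|C_S(x)|` divides `prodl l`.** -/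
theorem nd_dvd [Finite S] [IsSimpleGroup S] {N s t a : ℕ} {l : List (ℕ × ℕ)} (hs : s.Prime) (ht : t.Prime) (hst : s ≠ t)
    (hS : Nat.card S = N) {x : S} (hx : orderOf x = t) (hl : (l.all fun y => isPrimeB y.1) = true)
    (hd : Nat.card (centralizer ({x} : Set S)) ∣ prodl l) (P : ℕ → Bool)
    (hP : P (Nat.card (centralizer ({x} : Set S))) = true)
    (hchk : ((divsT l).all fun c => c % t != 0 || !P c || cchk N s t a c) = true) : ¬ Dom ({s, t} : Set ℕ) S := by
  have hl' : ∀ y ∈ l, (y.1).Prime := fun y hy => prime_of (List.all_eq_true.1 hl y hy)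
  have h1 := List.all_eq_true.1 hchk _ (mem_divsT hl' hd)
  have h2 : t ∣ Nat.card (centralizer ({x} : Set S)) := by
    have h3 : x ∈ centralizer ({x} : Set S) := mem_centralizer_singleton_iff.2 rfl
    have h4 := orderOf_dvd_natCard (⟨x, h3⟩ : centralizer ({x} : Set S))
    rwa [Subgroup.orderOf_mk, hx] at h4
  simp only [Bool.or_eq_true, bne_iff_ne, ne_eq, Bool.not_eq_true'] at h1
  rcases h1 with (h1 | h1) | h1
  · exact absurd (Nat.mod_eq_zero_of_dvd h2) h1
  · rw [hP] at h1
    exact absurd h1 (by decide)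
  · exact nd_cent hs ht hst hS hx rfl h1

/-- **`|S|_t = t`, `|C_S(x)| ≤ b`.** -/
theorem nd_le [Finite S] [IsSimpleGroup S] {N s t a b : ℕ} (hs : s.Prime) (ht : t.Prime) (hst : s ≠ t)
    (hS : Nat.card S = N) {x : S} (hx : orderOf x = t) (hd : Nat.card (centralizer ({x} : Set S)) ≤ b) (P : ℕ → Bool)
    (hP : P (Nat.card (centralizer ({x} : Set S))) = true)
    (hchk : ((List.range (b + 1)).all fun c => c == 0 || c % t != 0 || !P c || cchk N s t a c) = true) :
    ¬ Dom ({s, t} : Set ℕ) S := by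
  have h1 := List.all_eq_true.1 hchk _ (List.mem_range.2 (Nat.lt_succ_of_le hd))
  have h0 : Nat.card (centralizer ({x} : Set S)) ≠ 0 := Nat.card_pos.ne'
  have h2 : t ∣ Nat.card (centralizer ({x} : Set S)) := by
    have h3 : x ∈ centralizer ({x} : Set S) := mem_centralizer_singleton_iff.2 rfl
    have h4 := orderOf_dvd_natCard (⟨x, h3⟩ : centralizer ({x} : Set S))
    rwa [Subgroup.orderOf_mk, hx] at h4
  simp only [Bool.or_eq_true, bne_iff_ne, beq_iff_eq, ne_eq, Bool.not_eq_true'] at h1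
  rcases h1 with ((h1 | h1) | h1) | h1
  · exact absurd h1 h0
  · exact absurd (Nat.mod_eq_zero_of_dvd h2) h1
  · rw [hP] at h1
    exact absurd h1 (by decide)
  · exact nd_cent hs ht hst hS hx rfl h1

end Cfsg.Agent.H841.RM
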