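import Cfsg.Agent.H841.RM.BFive
import Cfsg.Agent.H935.Meet.BabyFive

/-!
# S3849, piece P11: the pair `(2,5)` of the Monster (helper841)
-/

set_option autoImplicit false
set_option maxRecDepth 100000

namespace Cfsg.Agent.H841.RM.MFive

open Subgroup Cfsg Cfsg.Agent.H571.DExt Cfsg.Agent.H464.RM
open Cfsg.Agent.H171.Odd (Inv1)
open Cfsg.Agent.H841.RM.BFive
open Cfsg.Agent.H241.Mon (Gam chart card_cz card_G)

universe u

theorem finite : Finite Gam := Nat.finite_of_card_ne_zero (by rw [card_G]; norm_num)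

theorem index_cz : (centralizer ({Cfsg.Agent.MonsterX.KDone.K.z} : Set Gam)).index = 5791748068511982636944259375 := by
  have := finite
  have h2 := (centralizer ({Cfsg.Agent.MonsterX.KDone.K.z} : Set Gam)).card_mul_index
  rw [card_cz, card_G] at h2
  apply Nat.eq_of_mul_eq_mul_left (show 0 < 2 ^ 25 * 4157776806543360000 by norm_num)
  rw [h2]
  norm_num

/-- the weights -/
def w (k : ℕ) : ℕ := [0, 2, 3, 2, 4, 2, 3, 2, 5, 2].getD k 0

theorem inv : Inv1 2 5 Gam := by
  have hfin := finite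
  have h := chart.large
  have hQ : IsPGroup 2 (Cfsg.Agent.MonsterX.KDone.K.ι.range) := by
    intro x
    refine ⟨2, Subtype.ext ?_⟩
    show (x : Gam) ^ (2 ^ 2) = 1
    have e : (x : Gam) ^ (2 ^ 2) = ((x : Gam) * x) * ((x : Gam) * x) := by
      simp only [show (2:ℕ)^2 = 4 from rfl, pow_succ, pow_zero, one_mul, mul_assoc]
    rcases h.sq x x.2 with h1 | h1
    · rw [e, h1, one_mul]
    · rw [e, h1, h.z_sq]
  obtain ⟨T, hT⟩ := Cfsg.Agent.H565.TwoLoc.of_large h (by rw [index_cz]; norm_num) hQ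
  refine hT.inv1 (a := 46) (b := 9) Nat.prime_five (by norm_num) ?_ ?_ w ?_ (by decide)
  · rw [card_G]; norm_num
  · rw [card_G]; norm_num
  · intro k hk1 hk2
    interval_cases k <;> simp [w]

theorem nd_model : ¬ Dom ({2, 5} : Set ℕ) Gam := by
  have hfin := finite
  exact nd_of (no_of_hn (a := 46) (b := 9) (m := 808017424794512875886459904961710757005754368000000000 / (2 ^ 46 * 5 ^ 9))
    Nat.prime_two (by norm_num) (card_G.trans (by norm_num)) (by norm_num) (by norm_num) inv
    Cfsg.Agent.H935.Meet.BabyFive.Phi Cfsg.Agent.H935.Meet.BabyFive.Phi_injective (of_chk (by decide +kernel)))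

theorem no2_m_5 {S : Type u} [Group S] [Finite S] [IsSimpleGroup S] (h : Spor.IsoM S) : ¬ Dom ({2, 5} : Set ℕ) S := by
  obtain ⟨e⟩ := Cfsg.Agent.H573.RM.Mon.exists_equiv h
  exact fun h1 => nd_model (Cfsg.Agent.H555.RV.dom_equiv e h1)

end Cfsg.Agent.H841.RM.MFive
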